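import Mathlib
import Cfsg.Prelude.Def_SolvableStructure
import Cfsg.Agent.Lib.Helper4.Basic
import Cfsg.Agent.Lib.Helper4.Conj
import Cfsg.Agent.Lib.Helper1.SylowSystem

set_option autoImplicit false
open Pointwise
open Cfsg

namespace Cfsg.Agent.Lib.Helper4

universe u

variable {G : Type u} [Group G]

theorem relIndex_eq_relIndex_sup_of_le_normalizer (H K : Subgroup G)
    (h : H ≤ Subgroup.normalizer (K : Set G)) : K.relIndex H = K.relIndex (H ⊔ K) := by
  let _ := Subgroup.normal_subgroupOf_of_le_normalizer h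
  let _ := Subgroup.normal_subgroupOf_sup_of_le_normalizer h
  exact Nat.card_congr (QuotientGroup.quotientInfEquivProdNormalizerQuotient H K h).toEquiv

/-- if `D` normalises `K` then `|D : D ∩ K|` divides `|G : K|` -/
theorem relIndex_dvd_index_of_le_normalizer (D K : Subgroup G)
    (h : D ≤ Subgroup.normalizer (K : Set G)) : K.relIndex D ∣ K.index := by
  rw [relIndex_eq_relIndex_sup_of_le_normalizer D K h]
  exact Dvd.intro _ (Subgroup.relIndex_mul_index (le_sup_right : K ≤ D ⊔ K))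

/-- if `N` is normal then `|N : N ∩ H|` divides `|G : H|` -/
theorem relIndex_dvd_index_of_normal_right [Finite G] (H N : Subgroup G) [hN : N.Normal] :
    H.relIndex N ∣ H.index := by
  have h1 := card_mul_card_eq_of_le_normalizer H N
    (by rw [Subgroup.normalizer_eq_top_iff.mpr hN]; exact le_top)
  have h2 := card_eq_inf_mul_relIndex N H
  have h3 := card_eq_mul_relIndex (le_sup_left : H ≤ H ⊔ N)
  rw [inf_comm] at h2
  rw [h2, h3] at h1
  have h4 : H.relIndex N = H.relIndex (H ⊔ N) := by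
    have hp1 : 0 < Nat.card H := Nat.card_pos
    have hp2 : 0 < Nat.card (H ⊓ N : Subgroup G) := Nat.card_pos
    have h5 : (Nat.card H * Nat.card (H ⊓ N : Subgroup G)) * H.relIndex N =
        (Nat.card H * Nat.card (H ⊓ N : Subgroup G)) * H.relIndex (H ⊔ N) := by
      calc _ = Nat.card H * (Nat.card (H ⊓ N : Subgroup G) * H.relIndex N) := by ring
        _ = Nat.card H * H.relIndex (H ⊔ N) * Nat.card (H ⊓ N : Subgroup G) := h1
        _ = _ := by ring
    exact Nat.eq_of_mul_eq_mul_left (Nat.mul_pos hp1 hp2) h5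
  rw [h4]
  exact Dvd.intro _ (Subgroup.relIndex_mul_index (le_sup_left : H ≤ H ⊔ N))

theorem compl_not_dvd_card [Finite G] {K : Nat.Primes → Subgroup G} (hK : IsComplementSystem K)
    (p : Nat.Primes) : ¬ (p : ℕ) ∣ Nat.card (K p) := by
  intro hd
  have h1 := (K p).card_mul_index
  rw [hK p] at h1
  apply Nat.pow_succ_factorization_not_dvd (Nat.card_pos (α := G)).ne' p.2
  rw [pow_succ']
  conv_rhs => rw [← h1]
  exact Nat.mul_dvd_mul_right hd _

theorem compl_coprime [Finite G] {K : Nat.Primes → Subgroup G} (hK : IsComplementSystem K)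
    (p : Nat.Primes) : (Nat.card (K p)).Coprime (K p).index := by
  rw [hK p]
  apply Nat.Coprime.pow_right
  rw [Nat.coprime_comm]
  exact (Nat.Prime.coprime_iff_not_dvd p.2).mpr (compl_not_dvd_card hK p)

theorem compl_eq_top_of_not_dvd {K : Nat.Primes → Subgroup G} (hK : IsComplementSystem K)
    (p : Nat.Primes) (hp : ¬ (p : ℕ) ∣ Nat.card G) : K p = ⊤ := by
  rw [← Subgroup.index_eq_one, hK p, Nat.factorization_eq_zero_of_not_dvd hp, pow_zero]

theorem isPGroup_of_forall_prime_dvd {X : Type*} [Group X] [Finite X] {r : ℕ}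
    (h : ∀ q : ℕ, q.Prime → q ∣ Nat.card X → q = r) : IsPGroup r X :=
  IsPGroup.of_card (Nat.eq_prime_pow_of_unique_prime_dvd (Nat.card_pos (α := X)).ne'
    (fun {d} hd hdd => h d hd hdd))

/-- an `r`-element lies in any normal subgroup whose index is a power of another prime -/
theorem mem_of_isPGroup_of_index_pow {X : Type*} [Group X] [Finite X] {r q k : ℕ} (hr : r.Prime)
    (hq : q.Prime) (hrq : r ≠ q) {R N : Subgroup X} [N.Normal] (hR : IsPGroup r R)
    (hN : N.index = q ^ k) : R ≤ N := by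
  intro y hy
  obtain ⟨j, hj⟩ := hR ⟨y, hy⟩
  have hj' : y ^ (r ^ j) = 1 := congrArg Subtype.val hj
  have d1 : orderOf (QuotientGroup.mk' N y) ∣ r ^ j := by
    apply orderOf_dvd_of_pow_eq_one
    rw [← map_pow, hj', map_one]
  have d2 : orderOf (QuotientGroup.mk' N y) ∣ q ^ k := by
    rw [← hN, Subgroup.index_eq_card]
    exact orderOf_dvd_natCard _
  have hc : Nat.Coprime (r ^ j) (q ^ k) :=
    Nat.Coprime.pow _ _ ((Nat.coprime_primes hr hq).mpr hrq)
  have d3 : orderOf (QuotientGroup.mk' N y) ∣ 1 := hc ▸ Nat.dvd_gcd d1 d2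
  have h1 := orderOf_eq_one_iff.mp (Nat.dvd_one.mp d3)
  rwa [QuotientGroup.mk'_apply, QuotientGroup.eq_one_iff] at h1

/-- A finite group with a normal `q`-complement for every prime `q` is nilpotent. -/
theorem isNilpotent_of_normal_complements {X : Type*} [Group X] [Finite X]
    (N : Nat.Primes → Subgroup X) (hn : ∀ q, (N q).Normal) (hi : ∀ q, ∃ k, (N q).index = (q : ℕ) ^ k)
    (hc : ∀ q : Nat.Primes, ¬ (q : ℕ) ∣ Nat.card (N q)) : Group.IsNilpotent X := by
  refine ((Group.isNilpotent_of_finite_tfae (G := X)).out 0 3 rfl rfl).mpr (fun r hr R => ?_)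
  obtain ⟨T, hT⟩ : ∃ T : Subgroup X, T = ⨅ (q : Nat.Primes) (_ : (q : ℕ) ≠ r), N q := ⟨_, rfl⟩
  have hTn : T.Normal := by
    rw [hT]
    exact Subgroup.normal_iInf_normal fun q => Subgroup.normal_iInf_normal fun _ => hn q
  have hRT : (R : Subgroup X) ≤ T := by
    rw [hT]
    refine le_iInf fun q => le_iInf fun hq => ?_
    obtain ⟨k, hk⟩ := hi q
    have := hn q
    exact mem_of_isPGroup_of_index_pow hr.out q.2 (Ne.symm hq) R.2 hk
  have hTr : IsPGroup r T := by
    apply isPGroup_of_forall_prime_dvd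
    intro q hq hqd
    by_contra hne
    apply hc ⟨q, hq⟩
    refine hqd.trans (Subgroup.card_dvd_of_le ?_)
    rw [hT]
    exact iInf_le_of_le ⟨q, hq⟩ (iInf_le _ hne)
  rw [← R.is_maximal' hTr hRT]
  exact hTn

theorem prime_dvd_index_finset_inf {X : Type u} [Group X] [Finite X] (M : Nat.Primes → Subgroup X)
    (hM : ∀ p : Nat.Primes, ∃ k, (M p).index = (p : ℕ) ^ k) (F : Finset Nat.Primes) :
    ∀ r : ℕ, r.Prime → r ∣ (F.inf M).index → ∃ p ∈ F, (p : ℕ) = r := by
  classical
  induction F using Finset.induction_on with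
  | empty =>
    intro r hr hd
    rw [Finset.inf_empty, Subgroup.index_top] at hd
    exact absurd (Nat.dvd_one.mp hd) hr.one_lt.ne'
  | insert a F ha ih =>
    intro r hr hd
    rw [Finset.inf_insert] at hd
    obtain ⟨k, hk⟩ := hM a
    have hcop : (M a).index.Coprime (F.inf M).index := by
      rw [hk]
      apply Nat.Coprime.pow_left
      rw [Nat.Prime.coprime_iff_not_dvd a.2]
      intro hd'
      obtain ⟨p, hp, e⟩ := ih a a.2 hd'
      exact ha ((Subtype.ext e : p = a) ▸ hp)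
    rw [Cfsg.Agent.Lib.Helper1.index_inf_of_coprime _ _ hcop, hk] at hd
    rcases (Nat.Prime.dvd_mul hr).mp hd with h | h
    · exact ⟨a, Finset.mem_insert_self a F,
        ((Nat.prime_dvd_prime_iff_eq hr a.2).mp (hr.dvd_of_dvd_pow h)).symm⟩
    · obtain ⟨p, hp, e⟩ := ih r hr h
      exact ⟨p, Finset.mem_insert_of_mem hp, e⟩

/-- simultaneous conjugacy of families indexed by primes -/
theorem simul_conj [Finite G] (N : Subgroup G) (K L : Nat.Primes → Subgroup G)
    (h1 : ∀ p, ∃ n ∈ N, MulAut.conj n • K p = L p)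
    (h2 : ∀ p : Nat.Primes, ∃ k, (Subgroup.normalizer (L p : Set G)).relIndex N = (p : ℕ) ^ k)
    (F : Finset Nat.Primes) : ∃ n ∈ N, ∀ p ∈ F, MulAut.conj n • K p = L p := by
  classical
  induction F using Finset.induction_on with
  | empty => exact ⟨1, N.one_mem, by simp⟩
  | insert q F hq ih =>
    obtain ⟨g₀, hg₀N, hg₀⟩ := ih
    obtain ⟨x, hxN, hx⟩ := h1 q
    obtain ⟨M, hMdef⟩ : ∃ M : Nat.Primes → Subgroup N,
        M = fun p => (Subgroup.normalizer (L p : Set G)).subgroupOf N := ⟨_, rfl⟩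
    have hM : ∀ p : Nat.Primes, ∃ k, (M p).index = (p : ℕ) ^ k := by
      intro p
      rw [hMdef]
      exact h2 p
    have hcop : (M q).index.Coprime (F.inf M).index := by
      obtain ⟨k, hk⟩ := hM q
      rw [hk]
      apply Nat.Coprime.pow_left
      rw [Nat.Prime.coprime_iff_not_dvd q.2]
      intro hd'
      obtain ⟨p, hp, e⟩ := prime_dvd_index_finset_inf M hM F q q.2 hd'
      exact hq ((Subtype.ext e : p = q) ▸ hp)
    obtain ⟨m, hm, d, hd, e⟩ := Cfsg.Agent.Lib.Helper1.exists_mul_of_coprime_index (M q) (F.inf M)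
      hcop ⟨x * g₀⁻¹, N.mul_mem hxN (N.inv_mem hg₀N)⟩
    have e' : x * g₀⁻¹ = (m : G) * (d : G) := congrArg Subtype.val e
    have hmem : ∀ p : Nat.Primes, ∀ y : N, y ∈ M p → MulAut.conj (y : G) • L p = L p := by
      intro p y hy
      rw [hMdef] at hy
      exact Subgroup.mem_normalizer_iff_map_conj_eq.mp hy
    refine ⟨d * g₀, N.mul_mem d.2 hg₀N, ?_⟩
    intro p hp
    rw [Finset.mem_insert] at hp
    rcases hp with rfl | hp
    · have hx' : x = (m : G) * ((d : G) * g₀) := by
        rw [← mul_assoc, ← e']; group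
      rw [hx', map_mul, mul_smul] at hx
      have h3 := hmem p m hm
      rw [← h3] at hx
      exact smul_left_cancel _ (hx.trans (by rw [h3]))
    · rw [map_mul, mul_smul, hg₀ p hp]
      exact hmem p d ((Finset.inf_le hp : F.inf M ≤ M p) hd)

theorem conj_smul_top (g : G) : MulAut.conj g • (⊤ : Subgroup G) = ⊤ := by
  ext x
  simp

theorem simul_conj_all [Finite G] (N : Subgroup G) (K L : Nat.Primes → Subgroup G)
    (h1 : ∀ p, ∃ n ∈ N, MulAut.conj n • K p = L p)
    (h2 : ∀ p : Nat.Primes, ∃ k, (Subgroup.normalizer (L p : Set G)).relIndex N = (p : ℕ) ^ k)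
    (h3 : ∀ p : Nat.Primes, ¬ (p : ℕ) ∣ Nat.card G → K p = ⊤ ∧ L p = ⊤) :
    ∃ n ∈ N, ∀ p, MulAut.conj n • K p = L p := by
  classical
  obtain ⟨F, hF⟩ : ∃ F : Finset Nat.Primes, ∀ p : Nat.Primes, (p : ℕ) ∣ Nat.card G → p ∈ F := by
    refine ⟨(Nat.card G).primeFactors.subtype Nat.Prime, fun p hp => ?_⟩
    exact Finset.mem_subtype.mpr
      (Nat.mem_primeFactors.mpr ⟨p.2, hp, (Nat.card_pos (α := G)).ne'⟩)
  obtain ⟨n, hn, h⟩ := simul_conj N K L h1 h2 F
  refine ⟨n, hn, fun p => ?_⟩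
  by_cases hp : (p : ℕ) ∣ Nat.card G
  · exact h p (hF p hp)
  · rw [(h3 p hp).1, (h3 p hp).2, conj_smul_top]

end Cfsg.Agent.Lib.Helper4
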