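import Mathlib
import Cfsg.Agent.Lib.Helper4.SysNorm
import Cfsg.Agent.Lib.Helper1.Hall

set_option autoImplicit false
open Pointwise
open Cfsg

namespace Cfsg.Agent.Lib.Helper4

universe u
variable {G : Type u} [Group G]

theorem isComplementSystem_of_index_pow {X : Type u} [Group X] [Finite X]
    (M : Nat.Primes → Subgroup X) (h1 : ∀ p : Nat.Primes, ∃ k, (M p).index = (p : ℕ) ^ k)
    (h2 : ∀ p : Nat.Primes, ¬ (p : ℕ) ∣ Nat.card (M p)) : IsComplementSystem M := by
  intro p
  obtain ⟨k, hk⟩ := h1 p
  have h3 := (M p).card_mul_index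
  rw [hk] at h3
  rw [hk, ← h3, Nat.factorization_mul (Nat.card_pos (α := M p)).ne' (pow_ne_zero _ p.2.ne_zero),
    Nat.Prime.factorization_pow p.2]
  simp [Nat.factorization_eq_zero_of_not_dvd (h2 p)]

theorem compl_map [Finite G] {K : Nat.Primes → Subgroup G} (hK : IsComplementSystem K)
    (N : Subgroup G) [N.Normal] :
    IsComplementSystem (fun p => (K p).map (QuotientGroup.mk' N)) := by
  apply isComplementSystem_of_index_pow
  · intro p
    have hd : ((K p).map (QuotientGroup.mk' N)).index ∣ (p : ℕ) ^ (Nat.card G).factorization p := by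
      rw [← hK p]
      exact Subgroup.index_map_dvd _ (QuotientGroup.mk'_surjective N)
    obtain ⟨k, -, hk⟩ := (Nat.dvd_prime_pow p.2).mp hd
    exact ⟨k, hk⟩
  · intro p hd
    apply compl_not_dvd_card hK p
    exact hd.trans (Subgroup.card_dvd_of_surjective ((QuotientGroup.mk' N).subgroupMap (K p))
      ((QuotientGroup.mk' N).subgroupMap_surjective (K p)))

theorem hall_conj_in [Finite G] [Group.IsSolvable G] {Y H L : Subgroup G} (hH : H ≤ Y) (hL : L ≤ Y)
    (hcard : Nat.card L = Nat.card H) (hcop : (Nat.card H).Coprime H.index) :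
    ∃ y ∈ Y, MulAut.conj y • H = L := by
  have h1 : Nat.card (H.subgroupOf Y) = Nat.card H := card_subgroupOf_of_le hH
  have h2 : Nat.card (L.subgroupOf Y) = Nat.card H := (card_subgroupOf_of_le hL).trans hcard
  have h3 := (H.subgroupOf Y).card_mul_index
  rw [h1] at h3
  have h4 : (H.subgroupOf Y).index ∣ H.index := Dvd.intro _ (Subgroup.relIndex_mul_index hH)
  obtain ⟨y, hy⟩ := Cfsg.Agent.Lib.Helper1.hall_conj (Nat.card H) (H.subgroupOf Y).index h3.symm
    (Nat.Coprime.coprime_dvd_right h4 hcop) (H.subgroupOf Y) (L.subgroupOf Y) h1 h2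
  exact ⟨y, y.2, conj_of_subgroupOf hH hL y hy⟩

theorem conj_smul_self_of_mem {H : Subgroup G} {k : G} (hk : k ∈ H) : MulAut.conj k • H = H := by
  ext x
  rw [mem_conj_smul]
  constructor
  · intro h
    have := H.mul_mem (H.mul_mem hk h) (H.inv_mem hk)
    simpa [mul_assoc] using this
  · intro h
    exact H.mul_mem (H.mul_mem (H.inv_mem hk) h) hk

theorem index_conj_smul (g : G) (H : Subgroup G) : (MulAut.conj g • H).index = H.index := by
  exact Subgroup.index_map_of_bijective (MulAut.conj g).bijective H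

theorem systemNormalizer_map [Finite G] [Group.IsSolvable G] {K : Nat.Primes → Subgroup G}
    (hK : IsComplementSystem K) (N : Subgroup G) [N.Normal] :
    systemNormalizer (fun p => (K p).map (QuotientGroup.mk' N)) =
      (systemNormalizer K).map (QuotientGroup.mk' N) := by
  apply le_antisymm
  · intro y hy
    obtain ⟨x, rfl⟩ := QuotientGroup.mk'_surjective N y
    have hy' : ∀ p : Nat.Primes, QuotientGroup.mk' N x ∈
        Subgroup.normalizer (((K p).map (QuotientGroup.mk' N) : Subgroup (G ⧸ N)) : Set (G ⧸ N)) := by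
      intro p
      exact (Subgroup.mem_iInf.mp hy) p
    have hx : ∀ p : Nat.Primes, MulAut.conj x • K p ≤ K p ⊔ N := by
      intro p z hz
      rw [mem_conj_smul] at hz
      have h1 := Subgroup.mem_normalizer_iff_map_conj_eq.mp (hy' p)
      have h2 : QuotientGroup.mk' N z ∈ MulAut.conj (QuotientGroup.mk' N x) •
          ((K p).map (QuotientGroup.mk' N)) := by
        rw [mem_conj_smul]
        refine ⟨_, hz, ?_⟩
        simp
      have h2' : QuotientGroup.mk' N z ∈ (K p).map (QuotientGroup.mk' N) := by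
        have h3 : MulAut.conj (QuotientGroup.mk' N x) • ((K p).map (QuotientGroup.mk' N)) =
          (K p).map (QuotientGroup.mk' N) := h1
        rwa [h3] at h2
      have h4 : z ∈ ((K p).map (QuotientGroup.mk' N)).comap (QuotientGroup.mk' N) := h2'
      rwa [Subgroup.comap_map_eq, QuotientGroup.ker_mk'] at h4
    obtain ⟨n, hn, h⟩ := simul_conj_all N K (fun p => MulAut.conj x • K p) (by
      intro p
      obtain ⟨y, hyY, hy⟩ := hall_conj_in (le_sup_left : K p ≤ K p ⊔ N) (hx p)
        (card_conj_smul x (K p)) (compl_coprime hK p)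
      rw [sup_comm] at hyY
      obtain ⟨n, hn, k, hk, rfl⟩ := Subgroup.mem_sup_of_normal_left.mp hyY
      refine ⟨n, hn, ?_⟩
      rw [← hy, map_mul, mul_smul, conj_smul_self_of_mem hk]) (by
      intro p
      have hd : (Subgroup.normalizer ((MulAut.conj x • K p : Subgroup G) : Set G)).relIndex N ∣
          (p : ℕ) ^ (Nat.card G).factorization p := by
        rw [← hK p, ← index_conj_smul x (K p)]
        exact (relIndex_dvd_index_of_normal_right _ N).trans
          (Subgroup.index_dvd_of_le Subgroup.le_normalizer)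
      obtain ⟨k, -, hk⟩ := (Nat.dvd_prime_pow p.2).mp hd
      exact ⟨k, hk⟩) (by
      intro p hp
      have := compl_eq_top_of_not_dvd hK p hp
      refine ⟨this, ?_⟩
      show MulAut.conj x • K p = ⊤
      rw [this, conj_smul_top])
    refine ⟨n⁻¹ * x, ?_, ?_⟩
    · refine Subgroup.mem_iInf.mpr (fun p => ?_)
      apply Subgroup.mem_normalizer_iff_map_conj_eq.mpr
      have h5 : MulAut.conj (n⁻¹ * x) • K p = K p := by
        rw [map_mul, mul_smul, ← h p, ← mul_smul, ← map_mul, inv_mul_cancel, map_one, one_smul]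
      exact h5
    · have h6 : QuotientGroup.mk' N n = 1 := (QuotientGroup.eq_one_iff n).mpr hn
      rw [map_mul, map_inv, h6]
      simp
  · rw [Subgroup.map_le_iff_le_comap]
    intro x hx
    refine Subgroup.mem_iInf.mpr (fun p => ?_)
    exact Subgroup.le_normalizer_map _ ⟨x, (Subgroup.mem_iInf.mp hx) p, rfl⟩

end Cfsg.Agent.Lib.Helper4
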