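import Mathlib
import Cfsg.Agent.Lib.Helper4.Conj
import Cfsg.Agent.Lib.Helper4.SysNorm2

set_option autoImplicit false
open Cfsg
open scoped Pointwise

namespace Cfsg.Agent.Lib.Helper4

universe u

variable {G : Type*} [Group G]

theorem pSub_conj_in [Finite G] {p : ℕ} [Fact p.Prime] {Y H1 H2 : Subgroup G} (h1 : H1 ≤ Y) (h2 : H2 ≤ Y)
    (hp1 : IsPGroup p H1) (hp2 : IsPGroup p H2) (hi1 : ¬ p ∣ H1.relIndex Y)
    (hi2 : ¬ p ∣ H2.relIndex Y) : ∃ y ∈ Y, MulAut.conj y • H1 = H2 := by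
  let S1 : Sylow p Y := (hp1.comap_subtype (K := Y)).toSylow hi1
  let S2 : Sylow p Y := (hp2.comap_subtype (K := Y)).toSylow hi2
  obtain ⟨c, hc⟩ := MulAction.exists_smul_eq Y S1 S2
  have h3 := congrArg (fun S : Sylow p Y => (S : Subgroup Y)) hc
  simp only [Sylow.coe_subgroup_smul] at h3
  exact ⟨c, c.2, conj_of_subgroupOf h1 h2 c h3⟩

theorem inf_normalizer_le_centralizer {D H : Subgroup G} [hD : D.Normal] (hdisj : D ⊓ H = ⊥) :
    D ⊓ Subgroup.normalizer (H : Set G) ≤ Subgroup.centralizer (H : Set G) := by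
  intro c hc
  obtain ⟨hcD, hcN⟩ := Subgroup.mem_inf.mp hc
  rw [Subgroup.mem_centralizer_iff]
  intro h hh
  have h1 : c * h * c⁻¹ * h⁻¹ ∈ D ⊓ H := by
    constructor
    · have h2 : c * h * c⁻¹ * h⁻¹ = c * (h * c⁻¹ * h⁻¹) := by group
      rw [h2]
      exact D.mul_mem hcD (hD.conj_mem _ (D.inv_mem hcD) h)
    · exact H.mul_mem ((Subgroup.mem_normalizer_iff.mp hcN h).mp hh) (H.inv_mem hh)
  rw [hdisj, Subgroup.mem_bot] at h1
  have h3 : c * h = (c * h * c⁻¹ * h⁻¹) * (h * c) := by group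
  rw [h1, one_mul] at h3
  exact h3.symm

theorem normalizer_inf_le' (A B : Subgroup G) :
    Subgroup.normalizer (A : Set G) ⊓ Subgroup.normalizer (B : Set G) ≤
      Subgroup.normalizer ((A ⊓ B : Subgroup G) : Set G) := by
  intro g hg
  obtain ⟨h1, h2⟩ := Subgroup.mem_inf.mp hg
  rw [Subgroup.mem_normalizer_iff] at h1 h2 ⊢
  intro n
  rw [Subgroup.mem_inf, Subgroup.mem_inf]
  exact and_congr (h1 n) (h2 n)

/-- part (a) -/
theorem factor_of_conj_mem_normalizer [Finite G] {p : ℕ} [Fact p.Prime] (D H : Subgroup G)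
    [hD : D.Normal] (hDp : (Nat.card D).Coprime p) (hH : IsPGroup p H) (y : G)
    (hy : y ∈ Subgroup.normalizer (H : Set G)) (hyo : ∃ k : ℕ, orderOf y = p ^ k) (d : G) (hd : d ∈ D)
    (hdy : d⁻¹ * y * d ∈ Subgroup.normalizer (H : Set G)) :
    ∃ d₁ ∈ D ⊓ Subgroup.centralizer ({y} : Set G),
      ∃ d₂ ∈ D ⊓ Subgroup.centralizer (H : Set G), d = d₁ * d₂ := by
  have hp : p.Prime := Fact.out
  have hdisjP : ∀ Q : Subgroup G, IsPGroup p Q → D ⊓ Q = ⊥ := by
    intro Q hQ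
    apply Disjoint.eq_bot
    apply Subgroup.disjoint_of_coprime_natCard
    obtain ⟨m, hm⟩ := hQ.exists_card_eq
    rw [hm]
    exact Nat.Coprime.pow_right _ hDp
  set N := Subgroup.normalizer (H : Set G) with hN
  set C : Subgroup G := D ⊓ N with hC
  set y' := d⁻¹ * y * d with hy'
  obtain ⟨k, hk⟩ := hyo
  have hzy : IsPGroup p (Subgroup.zpowers y) := IsPGroup.of_card (n := k) (by rw [Nat.card_zpowers, hk])
  have hoy' : orderOf y' = p ^ k := by
    rw [← hk, hy']
    have := orderOf_injective (MulAut.conj d⁻¹).toMonoidHom (MulAut.conj d⁻¹).injective y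
    simpa using this
  have hzy' : IsPGroup p (Subgroup.zpowers y') :=
    IsPGroup.of_card (n := k) (by rw [Nat.card_zpowers, hoy'])
  set X : Subgroup G := Subgroup.zpowers y ⊔ C with hX
  have hXN : X ≤ N := sup_le (Subgroup.zpowers_le.mpr hy) inf_le_right
  have hyy' : y⁻¹ * y' ∈ C := by
    constructor
    · have : y⁻¹ * y' = (y⁻¹ * d⁻¹ * y⁻¹⁻¹) * d := by rw [hy']; group
      rw [this]
      exact D.mul_mem (hD.conj_mem _ (D.inv_mem hd) _) hd
    · exact N.mul_mem (N.inv_mem hy) hdy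
  have hy'X : Subgroup.zpowers y' ≤ X := by
    rw [Subgroup.zpowers_le]
    have : y' = y * (y⁻¹ * y') := by group
    rw [this]
    exact X.mul_mem (Subgroup.mem_sup_left (Subgroup.mem_zpowers y)) (Subgroup.mem_sup_right hyy')
  -- order of X
  have hCnorm : Subgroup.zpowers y ≤ Subgroup.normalizer (C : Set G) := by
    rw [Subgroup.zpowers_le]
    apply normalizer_inf_le'
    refine ⟨?_, Subgroup.le_normalizer hy⟩
    rw [Subgroup.normalizer_eq_top_iff.mpr hD]
    exact Subgroup.mem_top y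
  have hcardX : Nat.card X = p ^ k * Nat.card C := by
    have h1 := card_mul_card_eq_of_le_normalizer (Subgroup.zpowers y) C hCnorm
    have h2 : Subgroup.zpowers y ⊓ C = ⊥ := by
      rw [eq_bot_iff, ← hdisjP _ hzy, inf_comm]
      exact inf_le_inf_right _ inf_le_left
    rw [h2, Subgroup.card_bot, mul_one, Nat.card_zpowers, hk] at h1
    exact h1.symm
  have hCp : ¬ p ∣ Nat.card C := by
    intro h
    have h1 := h.trans (Subgroup.card_dvd_of_le (inf_le_left : C ≤ D))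
    exact hp.one_lt.ne' (Nat.Coprime.eq_one_of_dvd hDp.symm h1)
  have hrel : ∀ z : G, orderOf z = p ^ k → Subgroup.zpowers z ≤ X →
      ¬ p ∣ (Subgroup.zpowers z).relIndex X := by
    intro z hz hzX
    have h1 := card_eq_mul_relIndex hzX
    rw [hcardX, Nat.card_zpowers, hz] at h1
    rw [← Nat.eq_of_mul_eq_mul_left (pow_pos hp.pos k) h1]
    exact hCp
  obtain ⟨c0, hc0, hconj⟩ := pSub_conj_in le_sup_left hy'X hzy hzy' (hrel y hk le_sup_left)
    (hrel y' hoy' hy'X)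
  have hc0' : c0 ∈ D ⊔ Subgroup.zpowers y := by
    have : X ≤ D ⊔ Subgroup.zpowers y := sup_le le_sup_right (inf_le_left.trans le_sup_left)
    exact this hc0
  rw [Subgroup.mem_sup_of_normal_left] at hc0'
  obtain ⟨d0, hd0, z, hz, rfl⟩ := hc0'
  have hd0N : d0 ∈ N := by
    have h1 : d0 = (d0 * z) * z⁻¹ := by group
    rw [h1]
    exact N.mul_mem (hXN hc0) (N.inv_mem ((Subgroup.zpowers_le.mpr hy) hz))
  have hconj' : MulAut.conj d0 • Subgroup.zpowers y = Subgroup.zpowers y' := by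
    rw [← hconj, map_mul, mul_smul, conj_smul_self_of_mem hz]
  have hmem : d0 * y * d0⁻¹ ∈ Subgroup.zpowers y' := by
    rw [← hconj', mem_conj_smul]
    have : d0⁻¹ * (d0 * y * d0⁻¹) * d0 = y := by group
    rw [this]
    exact Subgroup.mem_zpowers y
  have heq : d0 * y * d0⁻¹ = y' := by
    have h1 : (d0 * y * d0⁻¹)⁻¹ * y' ∈ D ⊓ Subgroup.zpowers y' := by
      constructor
      · have h2 : (d0 * y * d0⁻¹)⁻¹ * y' = d0 * ((y⁻¹ * d0⁻¹ * y⁻¹⁻¹) * (y⁻¹ * y')) := by group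
        rw [h2]
        exact D.mul_mem hd0 (D.mul_mem (hD.conj_mem _ (D.inv_mem hd0) _) hyy'.1)
      · exact Subgroup.mul_mem _ (Subgroup.inv_mem _ hmem) (Subgroup.mem_zpowers y')
    rw [hdisjP _ hzy', Subgroup.mem_bot] at h1
    exact inv_mul_eq_one.mp h1
  refine ⟨d * d0, ⟨D.mul_mem hd hd0, ?_⟩, d0⁻¹, ⟨D.inv_mem hd0, ?_⟩, by group⟩
  · show d * d0 ∈ Subgroup.centralizer ({y} : Set G)
    rw [Subgroup.mem_centralizer_singleton_iff]
    have h1 : d * (d0 * y * d0⁻¹) * d0 = d * y' * d0 := by rw [heq]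
    rw [hy'] at h1
    calc d * d0 * y = d * (d0 * y * d0⁻¹) * d0 := by group
      _ = d * (d⁻¹ * y * d) * d0 := h1
      _ = y * (d * d0) := by group
  · exact inf_normalizer_le_centralizer (hdisjP H hH) ⟨D.inv_mem hd0, N.inv_mem hd0N⟩

/-- part (b) -/
theorem conj_in_normalizer_of_conj [Finite G] {p : ℕ} [Fact p.Prime] (P : Sylow p G) (D L : Subgroup G)
    [hD : D.Normal] [hL : L.Normal] (hDp : (Nat.card D).Coprime p)
    (hLD : ∀ y ∈ L, ∃ k : ℕ, y ^ p ^ k ∈ D) (x y : G) (hx : x ∈ (P : Subgroup G))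
    (hy : y ∈ (P : Subgroup G)) (hxy : IsConj x y) :
    ∃ n ∈ Subgroup.normalizer (((P : Subgroup G) ⊓ L : Subgroup G) : Set G), n * x * n⁻¹ = y := by
  have hp : p.Prime := Fact.out
  set H : Subgroup G := (P : Subgroup G) ⊓ L with hH
  have hHp : IsPGroup p H := P.2.to_le inf_le_left
  set N := Subgroup.normalizer (H : Set G) with hN
  have hPN : (P : Subgroup G) ≤ N := by
    refine le_trans ?_ (normalizer_inf_le' _ _)
    rw [Subgroup.normalizer_eq_top_iff.mpr hL, inf_top_eq]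
    exact Subgroup.le_normalizer
  have hrelH : ¬ p ∣ H.relIndex L := by
    rw [hH, Subgroup.inf_relIndex_right]
    intro h
    exact P.not_dvd_index (h.trans (relIndex_dvd_index_of_normal_right _ L))
  -- L = D H
  have hLle : L ≤ D ⊔ H := by
    rw [← Subgroup.relIndex_eq_one]
    have h1 : (D ⊔ H).relIndex L ∣ H.relIndex L := Subgroup.relIndex_dvd_of_le_left L le_sup_right
    have h2 : (D ⊔ H).relIndex L ∣ D.relIndex L := Subgroup.relIndex_dvd_of_le_left L le_sup_left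
    have h3 : ∃ m, D.relIndex L = p ^ m := by
      have hq : IsPGroup p (L ⧸ D.subgroupOf L) := by
        intro q
        obtain ⟨l, rfl⟩ := QuotientGroup.mk_surjective q
        obtain ⟨k, hk⟩ := hLD l l.2
        refine ⟨k, ?_⟩
        rw [← QuotientGroup.mk_pow]
        apply (QuotientGroup.eq_one_iff _).mpr
        exact hk
      obtain ⟨m, hm⟩ := hq.exists_card_eq
      exact ⟨m, hm⟩
    obtain ⟨m, hm⟩ := h3
    rw [hm] at h2
    obtain ⟨j, -, hj⟩ := (Nat.dvd_prime_pow hp).mp h2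
    rcases Nat.eq_zero_or_pos j with h0 | h0
    · rw [hj, h0, pow_zero]
    · exfalso
      apply hrelH
      refine dvd_trans ?_ h1
      rw [hj]
      exact dvd_pow_self p h0.ne'
  obtain ⟨g, hg⟩ := isConj_iff.mp hxy
  have hgH : MulAut.conj g • H ≤ L := by
    intro z hz
    rw [mem_conj_smul] at hz
    have := hL.conj_mem _ hz.2 g
    simpa [mul_assoc] using this
  have hrelH' : ¬ p ∣ (MulAut.conj g • H).relIndex L := by
    have h1 := card_eq_mul_relIndex hgH
    have h2 := card_eq_mul_relIndex (inf_le_right : H ≤ L)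
    rw [card_conj_smul] at h1
    rw [h2] at h1
    rw [← Nat.eq_of_mul_eq_mul_left Nat.card_pos h1]
    exact hrelH
  have hgHp : IsPGroup p (MulAut.conj g • H : Subgroup G) := hHp.map _
  obtain ⟨l, hl, hconj⟩ := pSub_conj_in inf_le_right hgH hHp hgHp hrelH hrelH'
  have hl' := hLle hl
  rw [Subgroup.mem_sup_of_normal_left] at hl'
  obtain ⟨d, hd, h, hh, rfl⟩ := hl'
  have hconj' : MulAut.conj d • H = MulAut.conj g • H := by
    rw [← hconj, map_mul, mul_smul, conj_smul_self_of_mem hh]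
  have hn' : d⁻¹ * g ∈ N := by
    apply Subgroup.mem_normalizer_iff_map_conj_eq.mpr
    have h5 : MulAut.conj (d⁻¹ * g) • H = H := by
      rw [map_mul, mul_smul, ← hconj', ← mul_smul, ← map_mul, inv_mul_cancel, map_one, one_smul]
    exact h5
  set n' := d⁻¹ * g with hn'def
  set x' := n' * x * n'⁻¹ with hx'
  have hx'N : x' ∈ N := N.mul_mem (N.mul_mem hn' (hPN hx)) (N.inv_mem hn')
  have hyx' : y = d * x' * d⁻¹ := by
    rw [← hg, hx', hn'def]; group
  have hx'o : ∃ k : ℕ, orderOf x' = p ^ k := by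
    obtain ⟨k, hk⟩ := (IsPGroup.iff_orderOf.mp P.2) ⟨x, hx⟩
    refine ⟨k, ?_⟩
    rw [Subgroup.orderOf_mk] at hk
    rw [← hk, hx']
    have := orderOf_injective (MulAut.conj n').toMonoidHom (MulAut.conj n').injective x
    simpa using this
  obtain ⟨d1, hd1, d2, hd2, hdd⟩ := factor_of_conj_mem_normalizer D H hDp hHp x' hx'N hx'o d⁻¹
    (D.inv_mem hd) (by
      rw [inv_inv, ← hyx']
      exact hPN hy)
  have hd1c : d1 * x' = x' * d1 := by
    have := (Subgroup.mem_inf.mp hd1).2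
    rw [Subgroup.mem_centralizer_singleton_iff] at this
    exact this
  refine ⟨d2⁻¹ * n', N.mul_mem (N.inv_mem (Subgroup.centralizer_le_normalizer _ (Subgroup.mem_inf.mp hd2).2)) hn', ?_⟩
  have hd' : d = d2⁻¹ * d1⁻¹ := by
    rw [← inv_inv d, hdd]; group
  have h7 : d1⁻¹ * x' * d1 = x' := by
    rw [mul_assoc, ← hd1c]; group
  calc d2⁻¹ * n' * x * (d2⁻¹ * n')⁻¹ = d2⁻¹ * x' * d2 := by rw [hx']; group
    _ = d2⁻¹ * (d1⁻¹ * x' * d1) * d2 := by rw [h7]
    _ = d * x' * d⁻¹ := by rw [hd']; group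
    _ = y := hyx'.symm

end Cfsg.Agent.Lib.Helper4
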